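import Groth.Agent.Lib.SheafCoh.Top
import Mathlib.Algebra.Homology.ShortComplex.Ab
import Mathlib.Algebra.Homology.ShortComplex.ExactFunctor
import Mathlib.CategoryTheory.Limits.Types.Limits
import Mathlib.CategoryTheory.Sites.LocallySurjective
import Mathlib.CategoryTheory.Abelian.Exact

/-! # Towers of flasque sheaves -/

set_option autoImplicit false

universe u

open CategoryTheory CategoryTheory.Limits Opposite TopologicalSpace

namespace GrothLib.FlasqueTower25

/-- Lifting compatible families along a map of towers. -/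
theorem sections_lift {A B : ℕᵒᵖ ⥤ AddCommGrpCat.{u}} (g : A ⟶ B)
    (h0 : Function.Surjective (g.app (op 0)))
    (hstep : ∀ (n : ℕ) (a : A.obj (op n)) (b : B.obj (op (n + 1))),
      B.map (homOfLE (Nat.le_succ n)).op b = g.app (op n) a →
      ∃ a', A.map (homOfLE (Nat.le_succ n)).op a' = a ∧ g.app (op (n + 1)) a' = b)
    (s : (B ⋙ forget AddCommGrpCat).sections) :
    ∃ t : (A ⋙ forget AddCommGrpCat).sections, ∀ m, g.app m (t.1 m) = s.1 m := by
  choose a0 ha0 using h0
  choose F hF1 hF2 using hstep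
  let t : ∀ n : ℕ, {a : A.obj (op n) // g.app (op n) a = s.1 (op n)} := fun n =>
    Nat.rec (motive := fun n => {a : A.obj (op n) // g.app (op n) a = s.1 (op n)})
      ⟨a0 (s.1 (op 0)), ha0 _⟩
      (fun n a => ⟨F n a.1 (s.1 (op (n + 1))) ((s.2 (homOfLE (Nat.le_succ n)).op).trans a.2.symm),
        hF2 n _ _ _⟩) n
  have hc : ∀ (a b : ℕ) (h : a ≤ b), A.map (homOfLE h).op (t b).1 = (t a).1 := by
    intro a b h
    induction b, h using Nat.le_induction with
    | base => simp
    | succ b h ih =>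
      rw [← ih, ← hF1 b (t b).1 (s.1 (op (b + 1))) ((s.2 (homOfLE (Nat.le_succ b)).op).trans (t b).2.symm)]
      rw [← ConcreteCategory.comp_apply, ← A.map_comp]
      rfl
  exact ⟨⟨fun m => (t m.unop).1, fun {m m'} f => hc m'.unop m.unop f.unop.le⟩, fun m => (t m.unop).2⟩

variable {X : TopCat.{u}}

/-- Sections over an open, as a functor. -/
noncomputable abbrev secF (U : Opens X) : CohTop.Ab X ⥤ AddCommGrpCat.{u} :=
  sheafToPresheaf _ _ ⋙ (evaluation _ _).obj (op U)

theorem exists_of_sec_eq_zero {S : ShortComplex (CohTop.Ab X)} (hS : S.ShortExact) (U : Opens X)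
    (a : S.X₂.obj.obj (op U)) (ha : S.g.hom.app (op U) a = 0) :
    ∃ c, S.f.hom.app (op U) c = a := by
  have := hS.mono_f
  have : PreservesFiniteLimits (secF (X := X) U) := inferInstance
  have h : (S.map (secF U)).Exact := hS.exact.map_of_mono_of_preservesKernel (secF U) inferInstance inferInstance
  exact (ShortComplex.ab_exact_iff _).1 h a ha

theorem kernelSES {A B : CohTop.Ab X} (f : A ⟶ B) [Epi f] :
    (ShortComplex.mk (kernel.ι f) f (kernel.condition f)).ShortExact where
  exact := ShortComplex.exact_of_f_is_kernel _ (kernelIsKernel f)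

theorem exists_kernel_of_sec_eq_zero {A B : CohTop.Ab X} (f : A ⟶ B) [Epi f] (U : Opens X)
    (a : A.obj.obj (op U)) (ha : f.hom.app (op U) a = 0) :
    ∃ c, (kernel.ι f).hom.app (op U) c = a :=
  exists_of_sec_eq_zero (kernelSES f) U a ha

theorem surjective_sec {A B : CohTop.Ab X} (f : A ⟶ B) [Epi f]
    (hk : TopCat.Sheaf.IsFlasque (kernel f : CohTop.Ab X)) (U : Opens X) :
    Function.Surjective (f.hom.app (op U)) :=
  @GrothLib.SheafCoh.flasque_sections_surjective X _ (kernelSES f) hk U

/-- Sections of a limit sheaf as compatible families. -/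
noncomputable def secEquiv (M : ℕᵒᵖ ⥤ CohTop.Ab X) (U : Opens X) :
    (secF U).obj (limit M) ≃ ((M ⋙ secF U) ⋙ forget AddCommGrpCat).sections :=
  (Types.isLimitEquivSections (isLimitOfPreserves (secF U ⋙ forget AddCommGrpCat) (limit.isLimit M)))

theorem secEquiv_apply (M : ℕᵒᵖ ⥤ CohTop.Ab X) (U : Opens X) (x : (secF U).obj (limit M)) (m : ℕᵒᵖ) :
    (secEquiv M U x).1 m = (limit.π M m).hom.app (op U) x :=
  rfl

theorem isFlasque_limit (M : ℕᵒᵖ ⥤ CohTop.Ab X) (h1 : ∀ n : ℕ, TopCat.Sheaf.IsFlasque (M.obj (op n)))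
    (h2 : ∀ n : ℕ, Epi (M.map (homOfLE (Nat.le_succ n)).op))
    (h3 : ∀ n : ℕ, TopCat.Sheaf.IsFlasque (kernel (M.map (homOfLE (Nat.le_succ n)).op) : CohTop.Ab X)) :
    TopCat.Sheaf.IsFlasque (limit M : CohTop.Ab X) := by
  refine ⟨fun {U V} i => (AddCommGrpCat.epi_iff_surjective _).2 fun y => ?_⟩
  obtain ⟨U⟩ := U
  obtain ⟨V⟩ := V
  let g : (M ⋙ secF U) ⟶ (M ⋙ secF V) :=
    { app := fun m => (M.obj m).obj.map i
      naturality := fun m m' f => (M.map f).hom.naturality i |>.symm }
  have hsurj : ∀ (F : CohTop.Ab X), TopCat.Sheaf.IsFlasque F → Function.Surjective (F.obj.map i) := fun F hF =>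
    (AddCommGrpCat.epi_iff_surjective _).1 (hF.epi i)
  obtain ⟨t, ht⟩ := sections_lift g (hsurj _ (h1 0))
    (fun n (a : (M.obj (op n)).obj.obj (op U)) (b : (M.obj (op (n + 1))).obj.obj (op V)) hb => by
    let p := M.map (homOfLE (Nat.le_succ n)).op
    have := h2 n
    obtain ⟨a', ha'⟩ := surjective_sec p (h3 n) U a
    have hnat : ∀ x, p.hom.app (op V) ((M.obj (op (n + 1))).obj.map i x) =
        (M.obj (op n)).obj.map i (p.hom.app (op U) x) := fun x =>
      ConcreteCategory.congr_hom (p.hom.naturality i) x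
    obtain ⟨c, hc⟩ := exists_kernel_of_sec_eq_zero p V (b - (M.obj (op (n + 1))).obj.map i a') (by
      rw [map_sub, hnat, ha']
      exact sub_eq_zero.2 hb)
    obtain ⟨c', hc'⟩ := hsurj _ (h3 n) c
    refine ⟨a' + (kernel.ι p).hom.app (op U) c', ?_, ?_⟩
    · change p.hom.app (op U) _ = a
      rw [map_add, ha', ← ConcreteCategory.comp_apply, ← NatTrans.comp_app]
      change a + (kernel.ι p ≫ p).hom.app (op U) c' = a
      rw [kernel.condition]
      exact add_zero a
    · change (M.obj (op (n + 1))).obj.map i _ = b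
      have h4 : (M.obj (op (n + 1))).obj.map i ((kernel.ι p).hom.app (op U) c') =
          (kernel.ι p).hom.app (op V) ((kernel p : CohTop.Ab X).obj.map i c') :=
        (ConcreteCategory.congr_hom ((kernel.ι p).hom.naturality i) c').symm
      rw [map_add, h4, hc', hc]
      abel) (secEquiv M V y)
  refine ⟨(secEquiv M U).symm t, ?_⟩
  apply (secEquiv M V).injective
  refine Subtype.ext (funext fun m => ?_)
  rw [secEquiv_apply, ← ht m]
  have h5 : (limit.π M m).hom.app (op U) ((secEquiv M U).symm t) = t.1 m := by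
    rw [← secEquiv_apply, Equiv.apply_symm_apply]
  change (limit.π M m).hom.app (op V) ((limit M : CohTop.Ab X).obj.map i _) = (M.obj m).obj.map i (t.1 m)
  rw [← h5]
  exact ConcreteCategory.congr_hom ((limit.π M m).hom.naturality i) _

theorem epi_limMap (S : ShortComplex (ℕᵒᵖ ⥤ CohTop.Ab X)) (hS : S.ShortExact)
    (h1 : ∀ n : ℕ, TopCat.Sheaf.IsFlasque (S.X₁.obj (op n)))
    (h2 : ∀ n : ℕ, Epi (S.X₁.map (homOfLE (Nat.le_succ n)).op))
    (h3 : ∀ n : ℕ, TopCat.Sheaf.IsFlasque (kernel (S.X₁.map (homOfLE (Nat.le_succ n)).op) : CohTop.Ab X)) :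
    Epi (limMap S.g) := by
  have hn : ∀ n : ℕ, (S.map ((evaluation ℕᵒᵖ (CohTop.Ab X)).obj (op n))).ShortExact := fun n =>
    hS.map_of_exact _
  have hsurj : ∀ U : Opens X, Function.Surjective ((limMap S.g).hom.app (op U)) := fun U y => by
    obtain ⟨t, ht⟩ := sections_lift (Functor.whiskerRight S.g (secF U))
      (@GrothLib.SheafCoh.flasque_sections_surjective X _ (hn 0) (h1 0) U) (fun n (a : (S.X₂.obj (op n)).obj.obj (op U))
        (b : (S.X₃.obj (op (n + 1))).obj.obj (op U)) hb => by
      let p := S.X₂.map (homOfLE (Nat.le_succ n)).op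
      let p' := S.X₁.map (homOfLE (Nat.le_succ n)).op
      let gn := S.g.app (op n)
      let gn1 := S.g.app (op (n + 1))
      obtain ⟨m, hm⟩ : ∃ m : (S.X₂.obj (op (n + 1))).obj.obj (op U), gn1.hom.app (op U) m = b :=
        @GrothLib.SheafCoh.flasque_sections_surjective X _ (hn (n + 1)) (h1 (n + 1)) U b
      change gn1.hom.app (op U) m = b at hm
      have hnat : gn.hom.app (op U) (p.hom.app (op U) m) =
          (S.X₃.map (homOfLE (Nat.le_succ n)).op).hom.app (op U) (gn1.hom.app (op U) m) :=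
        (ConcreteCategory.congr_hom (congrArg (fun h : _ ⟶ S.X₃.obj (op n) => h.hom.app (op U))
          (S.g.naturality (homOfLE (Nat.le_succ n)).op)) m)
      obtain ⟨c, hc⟩ := exists_of_sec_eq_zero (hn n) U (p.hom.app (op U) m - a) (by
        change gn.hom.app (op U) _ = 0
        rw [map_sub, hnat, hm]
        exact sub_eq_zero.2 hb)
      have := h2 n
      obtain ⟨c', hc'⟩ := surjective_sec p' (h3 n) U c
      refine ⟨m - (S.f.app (op (n + 1))).hom.app (op U) c', ?_, ?_⟩
      · change p.hom.app (op U) _ = a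
        have h4 : p.hom.app (op U) ((S.f.app (op (n + 1))).hom.app (op U) c') =
            (S.f.app (op n)).hom.app (op U) (p'.hom.app (op U) c') :=
          (ConcreteCategory.congr_hom (congrArg (fun h : _ ⟶ S.X₂.obj (op n) => h.hom.app (op U))
            (S.f.naturality (homOfLE (Nat.le_succ n)).op)) c').symm
        rw [map_sub, h4, hc']
        change _ - (S.map ((evaluation ℕᵒᵖ (CohTop.Ab X)).obj (op n))).f.hom.app (op U) c = a
        rw [hc]
        abel
      · change gn1.hom.app (op U) _ = b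
        rw [map_sub, hm]
        have h4 : gn1.hom.app (op U) ((S.f.app (op (n + 1))).hom.app (op U) c') = 0 := by
          change ((S.f.app (op (n + 1))) ≫ gn1).hom.app (op U) c' = 0
          rw [show S.f.app (op (n + 1)) ≫ gn1 = 0 from (hn (n + 1)).exact |> fun _ => by
            rw [← NatTrans.comp_app, S.zero]; rfl]
          rfl
        rw [h4, sub_zero]) (secEquiv S.X₃ U y)
    refine ⟨(secEquiv S.X₂ U).symm t, ?_⟩
    apply (secEquiv S.X₃ U).injective
    refine Subtype.ext (funext fun m => ?_)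
    rw [secEquiv_apply, ← ht m]
    have h5 : (limit.π S.X₂ m).hom.app (op U) ((secEquiv S.X₂ U).symm t) = t.1 m := by
      rw [← secEquiv_apply, Equiv.apply_symm_apply]
    change (limMap S.g ≫ limit.π S.X₃ m).hom.app (op U) _ = (S.g.app m).hom.app (op U) (t.1 m)
    rw [limMap_π, ← h5]
    rfl
  have : Sheaf.IsLocallySurjective (limMap S.g) :=
    Presheaf.isLocallySurjective_of_surjective _ _ fun U => hsurj U.unop
  exact Sheaf.epi_of_isLocallySurjective _

end GrothLib.FlasqueTower25
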